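import Cfsg.Agent.Spor.Y5.K
import Cfsg.Agent.Spor.Fi.Model23

set_option autoImplicit false
set_option Elab.async false
set_option maxRecDepth 100000

namespace Cfsg.Agent.Spor.Y5

open Cfsg.Agent.Comp.BN

noncomputable def S : List ℕ := powW [2, 3, 7, 1, 4, 8, 5] 9

noncomputable def S13 : List ℕ := powW [2, 3, 1, 7, 4, 0, 5] 9

noncomputable def Zw : List ℕ := powW [5, 4, 3, 2, 7, 8, 1] 9

noncomputable def Z : List ℕ := powW (6 :: S) 3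

def hs : List (List ℕ) := [[0], [1], [2], [3], [4], [5], [7], [8]]

theorem cS13 : Conseq PK (appendL S (invW PK.I S13)) :=
  fK.conseq A.spec (by decide +kernel)

theorem cZw : Conseq PK (appendL S (invW PK.I Zw)) :=
  fK.conseq A.spec (by decide +kernel)

theorem cSS : Conseq PK (appendL S S) :=
  fK.conseq A.spec (by decide +kernel)

theorem cS0 : Conseq PK (appendL S (0 :: appendL S [0])) :=
  fK.conseq A.spec (by decide +kernel)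

theorem cS1 : Conseq PK (appendL S (1 :: appendL S [1])) :=
  fK.conseq A.spec (by decide +kernel)

theorem cS2 : Conseq PK (appendL S (2 :: appendL S [2])) :=
  fK.conseq A.spec (by decide +kernel)

theorem cS3 : Conseq PK (appendL S (3 :: appendL S [3])) :=
  fK.conseq A.spec (by decide +kernel)

theorem cS4 : Conseq PK (appendL S (4 :: appendL S [4])) :=
  fK.conseq A.spec (by decide +kernel)

theorem cS5 : Conseq PK (appendL S (5 :: appendL S [5])) :=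
  fK.conseq A.spec (by decide +kernel)

theorem cS7 : Conseq PK (appendL S (7 :: appendL S [7])) :=
  fK.conseq A.spec (by decide +kernel)

theorem cS8 : Conseq PK (appendL S (8 :: appendL S [8])) :=
  fK.conseq A.spec (by decide +kernel)

theorem hl : AllP (InSub A.doneC.P hs) A.doneC.loops :=
  ⟨inSub_of_mem (by decide), inSub_of_mem (by decide), inSub_of_mem (by decide), inSub_of_mem (by decide), inSub_of_mem (by decide), inSub_of_mem (by decide), inSub_of_mem (by decide), inSub_of_mem (by decide), sA_0, trivial⟩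

def h1 : List ℕ := [5, 4, 3, 2, 7, 8, 1, 2, 7, 0, 1, 2, 3, 4, 5, 6, 5, 4, 3, 2, 7, 8, 1, 2, 7, 0, 1, 2, 3, 4, 5]

def h2 : List ℕ := [5, 4, 3, 2, 7, 8, 1, 2, 7, 0, 1, 2, 3, 4, 5, 6, 2, 7, 5, 4, 1, 2, 3, 0, 1, 2, 7, 8, 7, 2, 3, 1, 2, 7, 0, 1, 2, 3, 4, 5]

def h3 : List ℕ := [2, 3, 1, 2, 7, 4, 5, 3, 4, 2, 3, 1, 2, 7, 8, 7, 2, 3, 1, 2, 7, 0, 1, 2, 3, 4, 5]

def h4 : List ℕ := [6, 5, 4, 3, 2, 7, 8, 1, 2, 7, 0, 1, 2, 3, 4, 5]

theorem m_a : InSub PK hs (appendL (invW PK.I []) h3) :=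
  A.done.inSub A.spec hl (by decide +kernel)

theorem m_b : InSub PK hs (appendL (invW PK.I (appendL [] [6])) h4) :=
  A.done.inSub A.spec hl (by decide +kernel)

theorem m_c : InSub PK hs (appendL Z (appendL (invW PK.I (appendL [] (appendL S [6]))) (appendL h2 (appendL S [6])))) :=
  A.done.inSub A.spec hl (by decide +kernel)

theorem m_d : InSub PK hs (appendL (invW PK.I (appendL h1 (appendL S [6]))) (appendL h4 (appendL S [6]))) :=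
  A.done.inSub A.spec hl (by decide +kernel)

theorem m_e : InSub PK hs (appendL Z (appendL (invW PK.I (appendL h1 [6])) (appendL h3 [6]))) :=
  A.done.inSub A.spec hl (by decide +kernel)

theorem m_f : InSub PK hs (appendL (invW PK.I h1) h2) :=
  A.done.inSub A.spec hl (by decide +kernel)

theorem m_i : InSub PK hs (appendL Z (appendL (invW PK.I (appendL h2 [6])) (appendL h3 (appendL S [6])))) :=
  A.done.inSub A.spec hl (by decide +kernel)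

theorem m_i2 : InSub PK hs (appendL (invW PK.I (appendL h2 [6])) (appendL h4 [6])) :=
  A.done.inSub A.spec hl (by decide +kernel)

theorem f23 : Faithful FiC.P23 FiC.M23.π [11246, 3, 2, 1, 0] :=
  faithful_of_chain FiC.M23.bound FiC.M23.sat FiC.M23.ch (by decide)

noncomputable def Z23 : List ℕ := powW (7 :: powW [3, 4, 8, 2, 5, 9, 6] 9) 3

theorem cZ23 : Conseq FiC.P23 Z23 :=
  f23.conseq FiC.M23.spec (by decide +kernel)

def P4 : Pres := ⟨[0, 1, 2, 3, 4, 5, 6, 7, 8, 9],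
  [[0, 1, 0, 1, 0, 1],
   [0, 2, 0, 2],
   [0, 3, 0, 3],
   [0, 4, 0, 4],
   [0, 5, 0, 5],
   [0, 6, 0, 6],
   [0, 8, 0, 8],
   [0, 9, 0, 9],
   [0, 7, 0, 7],
   [1, 2, 1, 2, 1, 2],
   [1, 3, 1, 3],
   [1, 4, 1, 4],
   [1, 5, 1, 5],
   [1, 6, 1, 6],
   [1, 8, 1, 8],
   [1, 9, 1, 9],
   [1, 7, 1, 7],
   [2, 3, 2, 3, 2, 3],
   [2, 4, 2, 4],
   [2, 5, 2, 5],
   [2, 6, 2, 6],
   [2, 8, 2, 8],
   [2, 9, 2, 9],
   [2, 7, 2, 7],
   [3, 4, 3, 4, 3, 4],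
   [3, 5, 3, 5],
   [3, 6, 3, 6],
   [3, 8, 3, 8, 3, 8],
   [3, 9, 3, 9],
   [3, 7, 3, 7],
   [4, 5, 4, 5, 4, 5],
   [4, 6, 4, 6],
   [4, 8, 4, 8],
   [4, 9, 4, 9],
   [4, 7, 4, 7],
   [5, 6, 5, 6, 5, 6],
   [5, 8, 5, 8],
   [5, 9, 5, 9],
   [5, 7, 5, 7],
   [6, 8, 6, 8],
   [6, 9, 6, 9],
   [6, 7, 6, 7, 6, 7],
   [8, 9, 8, 9, 8, 9],
   [8, 7, 8, 7],
   [9, 7, 9, 7],
   [3, 2, 1, 3, 4, 5, 3, 8, 9, 3, 2, 1, 3, 4, 5, 3, 8, 9, 3, 2, 1, 3, 4, 5, 3, 8, 9, 3, 2, 1, 3, 4, 5, 3, 8, 9, 3, 2, 1, 3, 4, 5, 3, 8, 9, 3, 2, 1, 3, 4, 5, 3, 8, 9, 3, 2, 1, 3, 4, 5, 3, 8, 9, 3, 2, 1, 3, 4, 5, 3, 8, 9, 3, 2, 1, 3, 4, 5, 3, 8, 9, 3, 2, 1, 3, 4, 5, 3, 8, 9]]⟩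

def P5 : Pres := ⟨[0, 1, 2, 3, 4, 5, 6, 7, 8, 9, 10, 11, 12, 13, 14, 15],
  [[0, 1, 0, 1, 0, 1],
   [0, 2, 0, 2],
   [0, 3, 0, 3],
   [0, 4, 0, 4],
   [0, 5, 0, 5],
   [0, 6, 0, 6, 0, 6],
   [0, 7, 0, 7],
   [0, 8, 0, 8],
   [0, 9, 0, 9],
   [0, 10, 0, 10],
   [0, 11, 0, 11, 0, 11],
   [0, 12, 0, 12],
   [0, 13, 0, 13],
   [0, 14, 0, 14],
   [0, 15, 0, 15],
   [1, 2, 1, 2, 1, 2],
   [1, 3, 1, 3],
   [1, 4, 1, 4],
   [1, 5, 1, 5],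
   [1, 6, 1, 6],
   [1, 7, 1, 7],
   [1, 8, 1, 8],
   [1, 9, 1, 9],
   [1, 10, 1, 10],
   [1, 11, 1, 11],
   [1, 12, 1, 12],
   [1, 13, 1, 13],
   [1, 14, 1, 14],
   [1, 15, 1, 15],
   [2, 3, 2, 3, 2, 3],
   [2, 4, 2, 4],
   [2, 5, 2, 5],
   [2, 6, 2, 6],
   [2, 7, 2, 7],
   [2, 8, 2, 8],
   [2, 9, 2, 9],
   [2, 10, 2, 10],
   [2, 11, 2, 11],
   [2, 12, 2, 12],
   [2, 13, 2, 13],
   [2, 14, 2, 14],
   [2, 15, 2, 15],
   [3, 4, 3, 4, 3, 4],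
   [3, 5, 3, 5],
   [3, 6, 3, 6],
   [3, 7, 3, 7],
   [3, 8, 3, 8],
   [3, 9, 3, 9],
   [3, 10, 3, 10],
   [3, 11, 3, 11],
   [3, 12, 3, 12],
   [3, 13, 3, 13],
   [3, 14, 3, 14],
   [3, 15, 3, 15],
   [4, 5, 4, 5, 4, 5],
   [4, 6, 4, 6],
   [4, 7, 4, 7],
   [4, 8, 4, 8],
   [4, 9, 4, 9],
   [4, 10, 4, 10],
   [4, 11, 4, 11],
   [4, 12, 4, 12],
   [4, 13, 4, 13],
   [4, 14, 4, 14],
   [4, 15, 4, 15],
   [5, 6, 5, 6],
   [5, 7, 5, 7],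
   [5, 8, 5, 8],
   [5, 9, 5, 9],
   [5, 10, 5, 10],
   [5, 11, 5, 11],
   [5, 12, 5, 12],
   [5, 13, 5, 13],
   [5, 14, 5, 14],
   [5, 15, 5, 15],
   [6, 7, 6, 7, 6, 7],
   [6, 8, 6, 8],
   [6, 9, 6, 9],
   [6, 10, 6, 10],
   [6, 11, 6, 11],
   [6, 12, 6, 12],
   [6, 13, 6, 13],
   [6, 14, 6, 14],
   [6, 15, 6, 15],
   [7, 8, 7, 8, 7, 8],
   [7, 9, 7, 9],
   [7, 10, 7, 10],
   [7, 11, 7, 11],
   [7, 12, 7, 12],
   [7, 13, 7, 13],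
   [7, 14, 7, 14],
   [7, 15, 7, 15],
   [8, 9, 8, 9, 8, 9],
   [8, 10, 8, 10],
   [8, 11, 8, 11],
   [8, 12, 8, 12],
   [8, 13, 8, 13],
   [8, 14, 8, 14],
   [8, 15, 8, 15],
   [9, 10, 9, 10, 9, 10],
   [9, 11, 9, 11],
   [9, 12, 9, 12],
   [9, 13, 9, 13],
   [9, 14, 9, 14],
   [9, 15, 9, 15],
   [10, 11, 10, 11],
   [10, 12, 10, 12],
   [10, 13, 10, 13],
   [10, 14, 10, 14],
   [10, 15, 10, 15],
   [11, 12, 11, 12, 11, 12],
   [11, 13, 11, 13],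
   [11, 14, 11, 14],
   [11, 15, 11, 15],
   [12, 13, 12, 13, 12, 13],
   [12, 14, 12, 14],
   [12, 15, 12, 15],
   [13, 14, 13, 14, 13, 14],
   [13, 15, 13, 15],
   [14, 15, 14, 15, 14, 15],
   [0, 1, 2, 0, 6, 7, 0, 11, 12, 0, 1, 2, 0, 6, 7, 0, 11, 12, 0, 1, 2, 0, 6, 7, 0, 11, 12, 0, 1, 2, 0, 6, 7, 0, 11, 12, 0, 1, 2, 0, 6, 7, 0, 11, 12, 0, 1, 2, 0, 6, 7, 0, 11, 12, 0, 1, 2, 0, 6, 7, 0, 11, 12, 0, 1, 2, 0, 6, 7, 0, 11, 12, 0, 1, 2, 0, 6, 7, 0, 11, 12, 0, 1, 2, 0, 6, 7, 0, 11, 12]]⟩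

theorem i4 : Impl Cfsg.Agent.Spor.Y5.P5 Cfsg.Agent.Spor.Y5.P4 [[13], [12], [11], [0], [1], [2], [3], [4], [6], [7]] :=
  impl_of_subC (P := Cfsg.Agent.Spor.Y5.P5) (c1 := [(363, 0), (363, 0), (363, 0), (363, 0), (363, 0), (363, 0), (363, 0), (363, 0), (363, 0), (363, 0)]) (c2 := [(342, 1), (333, 1), (36, 1), (78, 1), (117, 1), (153, 1), (243, 1), (267, 1), (186, 1), (330, 1), (33, 1), (75, 1), (114, 1), (150, 1), (240, 1), (264, 1), (183, 1), (30, 1), (72, 1), (111, 1), (147, 1), (237, 1), (261, 1), (180, 1), (0, 0), (3, 0), (6, 0), (15, 0), (18, 0), (9, 0), (45, 0), (48, 0), (57, 0), (60, 0), (51, 0), (87, 0), (96, 0), (99, 0), (90, 0), (132, 0), (135, 0), (126, 0), (225, 0), (165, 1), (168, 1), (360, 6)]) (by decide +kernel)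

theorem iK1 : Impl Cfsg.Agent.Spor.Y5.P5 Cfsg.Agent.Spor.Y5.PK [[12], [11], [0], [1], [2], [3], [4], [6], [7]] :=
  impl_of_subC (P := Cfsg.Agent.Spor.Y5.P5) (c1 := [(363, 0), (363, 0), (363, 0), (363, 0), (363, 0), (363, 0), (363, 0), (363, 0), (363, 0)]) (c2 := [(330, 1), (33, 1), (75, 1), (114, 1), (150, 1), (240, 1), (264, 1), (183, 1), (30, 1), (72, 1), (111, 1), (147, 1), (237, 1), (261, 1), (180, 1), (0, 0), (3, 0), (6, 0), (15, 0), (18, 0), (9, 0), (45, 0), (48, 0), (57, 0), (60, 0), (51, 0), (87, 0), (96, 0), (99, 0), (90, 0), (132, 0), (135, 0), (126, 0), (225, 0), (165, 1), (168, 1), (360, 6)]) (by decide +kernel)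

theorem iK3 : Impl Cfsg.Agent.Spor.Y5.P5 Cfsg.Agent.Spor.Y5.PK [[7], [6], [0], [11], [12], [13], [14], [1], [2]] :=
  impl_of_subC (P := Cfsg.Agent.Spor.Y5.P5) (c1 := [(363, 0), (363, 0), (363, 0), (363, 0), (363, 0), (363, 0), (363, 0), (363, 0), (363, 0)]) (c2 := [(225, 1), (18, 1), (261, 0), (264, 0), (267, 0), (60, 1), (99, 1), (270, 0), (15, 1), (237, 0), (240, 0), (243, 0), (57, 1), (96, 1), (246, 0), (30, 0), (33, 0), (36, 0), (0, 0), (3, 0), (39, 0), (330, 0), (333, 0), (72, 1), (111, 1), (336, 0), (342, 0), (75, 1), (114, 1), (345, 0), (78, 1), (117, 1), (351, 0), (45, 0), (81, 0), (120, 0), (360, 3)]) (by decide +kernel)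

theorem iR : Impl Cfsg.Agent.Spor.Y5.P5 Cfsg.Agent.Spor.Y5.P5 [[0], [6], [7], [8], [9], [10], [11], [12], [13], [14], [15], [1], [2], [3], [4], [5]] :=
  impl_of_subC (P := Cfsg.Agent.Spor.Y5.P5) (c1 := [(363, 0), (363, 0), (363, 0), (363, 0), (363, 0), (363, 0), (363, 0), (363, 0), (363, 0), (363, 0), (363, 0), (363, 0), (363, 0), (363, 0), (363, 0), (363, 0)]) (c2 := [(15, 0), (18, 0), (21, 0), (24, 0), (27, 0), (30, 0), (33, 0), (36, 0), (39, 0), (42, 0), (0, 0), (3, 0), (6, 0), (9, 0), (12, 0), (225, 0), (228, 0), (231, 0), (234, 0), (237, 0), (240, 0), (243, 0), (246, 0), (249, 0), (57, 1), (96, 1), (132, 1), (165, 1), (195, 1), (252, 0), (255, 0), (258, 0), (261, 0), (264, 0), (267, 0), (270, 0), (273, 0), (60, 1), (99, 1), (135, 1), (168, 1), (198, 1), (276, 0), (279, 0), (282, 0), (285, 0), (288, 0), (291, 0), (294, 0), (63, 1), (102, 1), (138, 1),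 (171, 1), (201, 1), (297, 0), (300, 0), (303, 0), (306, 0), (309, 0), (312, 0), (66, 1), (105, 1), (141, 1), (174, 1), (204, 1), (315, 0), (318, 0), (321, 0), (324, 0), (327, 0), (69, 1), (108, 1), (144, 1), (177, 1), (207, 1), (330, 0), (333, 0), (336, 0), (339, 0), (72, 1), (111, 1), (147, 1), (180, 1), (210, 1), (342, 0), (345, 0), (348, 0), (75, 1), (114, 1), (150, 1), (183, 1), (213, 1), (351, 0), (354, 0), (78, 1), (117, 1), (153, 1), (186, 1), (216, 1), (357, 0), (81, 1), (120, 1), (156, 1), (189, 1), (219, 1), (84, 1), (123, 1), (159, 1), (192, 1), (222, 1), (45, 0), (48, 0), (51, 0), (54, 0), (87, 0), (90, 0), (93, 0), (126, 0), (129, 0), (162, 0), (360, 3)]) (by decide +kernel)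

end Cfsg.Agent.Spor.Y5
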