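import Cfsg.Agent.Spor.Y5.K2
import Cfsg.Prelude.Def_Spor_M

set_option autoImplicit false
set_option Elab.async false
set_option maxRecDepth 100000

namespace Cfsg.Agent.Spor.Y5

open Cfsg.Agent.Comp.BN

def enc : Cfsg.Spor.Bimonster.Gen → ℕ
  | .a => 0
  | .b1 => 1
  | .c1 => 2
  | .d1 => 3
  | .e1 => 4
  | .f1 => 5
  | .b2 => 6
  | .c2 => 7
  | .d2 => 8
  | .e2 => 9
  | .f2 => 10
  | .b3 => 11
  | .c3 => 12
  | .d3 => 13
  | .e3 => 14
  | .f3 => 15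

def lt : List (FreeGroup Cfsg.Spor.Bimonster.Gen) := [Cfsg.Spor.Bimonster.a, Cfsg.Spor.Bimonster.b1, Cfsg.Spor.Bimonster.c1, Cfsg.Spor.Bimonster.d1, Cfsg.Spor.Bimonster.e1, Cfsg.Spor.Bimonster.f1, Cfsg.Spor.Bimonster.b2, Cfsg.Spor.Bimonster.c2, Cfsg.Spor.Bimonster.d2, Cfsg.Spor.Bimonster.e2, Cfsg.Spor.Bimonster.f2, Cfsg.Spor.Bimonster.b3, Cfsg.Spor.Bimonster.c3, Cfsg.Spor.Bimonster.d3, Cfsg.Spor.Bimonster.e3, Cfsg.Spor.Bimonster.f3]

abbrev sp : List (FreeGroup Cfsg.Spor.Bimonster.Gen) := [(Cfsg.Spor.Bimonster.a * Cfsg.Spor.Bimonster.b1 * Cfsg.Spor.Bimonster.c1 * Cfsg.Spor.Bimonster.a * Cfsg.Spor.Bimonster.b2 * Cfsg.Spor.Bimonster.c2 * Cfsg.Spor.Bimonster.a * Cfsg.Spor.Bimonster.b3 * Cfsg.Spor.Bimonster.c3) ^ 10]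

noncomputable def x : ℕ → Cfsg.Spor.CoxPresented Cfsg.Spor.Bimonster.Gen Cfsg.Spor.Bimonster.edges sp := coxT Cfsg.Spor.Bimonster.edges sp lt

theorem hk : ∀ k < P5.inv.length, ∃ q, k = enc q ∨ k = P5.I (enc q) := by
  intro k hk
  change k < 16 at hk
  interval_cases k
  · exact ⟨.a, Or.inl rfl⟩
  · exact ⟨.b1, Or.inl rfl⟩
  · exact ⟨.c1, Or.inl rfl⟩
  · exact ⟨.d1, Or.inl rfl⟩
  · exact ⟨.e1, Or.inl rfl⟩
  · exact ⟨.f1, Or.inl rfl⟩
  · exact ⟨.b2, Or.inl rfl⟩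
  · exact ⟨.c2, Or.inl rfl⟩
  · exact ⟨.d2, Or.inl rfl⟩
  · exact ⟨.e2, Or.inl rfl⟩
  · exact ⟨.f2, Or.inl rfl⟩
  · exact ⟨.b3, Or.inl rfl⟩
  · exact ⟨.c3, Or.inl rfl⟩
  · exact ⟨.d3, Or.inl rfl⟩
  · exact ⟨.e3, Or.inl rfl⟩
  · exact ⟨.f3, Or.inl rfl⟩

theorem link : Link P5 x ∧ ∀ w, PresentedGroup.mk _ w = ev x (encW P5 enc w) :=
  link_cox enc [.a, .b1, .c1, .d1, .e1, .f1, .b2, .c2, .d2, .e2, .f2, .b3, .c3, .d3, .e3, .f3] lt (fun q => by cases q <;> decide) (by decide) (fun q => by cases q <;> rfl)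
    ⟨mk_sq (c := Cfsg.Spor.Bimonster.Gen.a) (by decide), mk_sq (c := Cfsg.Spor.Bimonster.Gen.b1) (by decide), mk_sq (c := Cfsg.Spor.Bimonster.Gen.c1) (by decide), mk_sq (c := Cfsg.Spor.Bimonster.Gen.d1) (by decide), mk_sq (c := Cfsg.Spor.Bimonster.Gen.e1) (by decide), mk_sq (c := Cfsg.Spor.Bimonster.Gen.f1) (by decide), mk_sq (c := Cfsg.Spor.Bimonster.Gen.b2) (by decide), mk_sq (c := Cfsg.Spor.Bimonster.Gen.c2) (by decide), mk_sq (c := Cfsg.Spor.Bimonster.Gen.d2) (by decide), mk_sq (c := Cfsg.Spor.Bimonster.Gen.e2) (by decide), mk_sq (c := Cfsg.Spor.Bimonster.Gen.f2) (by decide), mk_sq (c := Cfsg.Spor.Bimonster.Gen.b3) (by decide), mk_sq (c := Cfsg.Spor.Bimonster.Gen.c3) (by decide), mk_sq (c := Cfsg.Spor.Bimonster.Gen.d3) (by decide), mk_sq (c := Cfsg.Spor.Bimonster.Gen.e3) (by decide), mk_sq (c := Cfsg.Spor.Bimonster.Gen.f3) (by decide), trivial⟩ hk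
    (c1 := [(363, 0), (0, 0), (3, 0), (6, 0), (9, 0), (12, 0), (15, 0), (18, 0), (21, 0), (24, 0), (27, 0), (30, 0), (33, 0), (36, 0), (39, 0), (42, 0), (0, 1), (363, 0), (45, 0), (48, 0), (51, 0), (54, 0), (57, 0), (60, 0), (63, 0), (66, 0), (69, 0), (72, 0), (75, 0), (78, 0), (81, 0), (84, 0), (3, 1), (45, 1), (363, 0), (87, 0), (90, 0), (93, 0), (96, 0), (99, 0), (102, 0), (105, 0), (108, 0), (111, 0), (114, 0), (117, 0), (120, 0), (123, 0), (6, 1), (48, 1), (87, 1), (363, 0), (126, 0), (129, 0), (132, 0), (135, 0), (138, 0), (141, 0), (144, 0), (147, 0), (150, 0), (153, 0), (156, 0), (159, 0), (9, 1), (51, 1), (90, 1), (126, 1), (363, 0), (162, 0), (165, 0), (168, 0), (171, 0), (174, 0), (177, 0), (180, 0), (183, 0), (186, 0), (189, 0), (192, 0), (12, 1), (54, 1), (93, 1), (129, 1), (162, 1), (363, 0), (195, 0), (198, 0), (201, 0), (204, 0), (207, 0), (210, 0), (213, 0), (216, 0), (219, 0),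 (222, 0), (15, 1), (57, 1), (96, 1), (132, 1), (165, 1), (195, 1), (363, 0), (225, 0), (228, 0), (231, 0), (234, 0), (237, 0), (240, 0), (243, 0), (246, 0), (249, 0), (18, 1), (60, 1), (99, 1), (135, 1), (168, 1), (198, 1), (225, 1), (363, 0), (252, 0), (255, 0), (258, 0), (261, 0), (264, 0), (267, 0), (270, 0), (273, 0), (21, 1), (63, 1), (102, 1), (138, 1), (171, 1), (201, 1), (228, 1), (252, 1), (363, 0), (276, 0), (279, 0), (282, 0), (285, 0), (288, 0), (291, 0), (294, 0), (24, 1), (66, 1), (105, 1), (141, 1), (174, 1), (204, 1), (231, 1), (255, 1), (276, 1), (363, 0), (297, 0), (300, 0), (303, 0), (306, 0), (309, 0), (312, 0), (27, 1), (69, 1), (108, 1), (144, 1), (177, 1), (207, 1), (234, 1), (258, 1), (279, 1), (297, 1), (363, 0), (315, 0), (318, 0), (321, 0), (324, 0), (327, 0), (30, 1), (72, 1), (111, 1), (147, 1), (180, 1), (210, 1), (237, 1), (261, 1), (282, 1), (300, 1), (315, 1), (363,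 0), (330, 0), (333, 0), (336, 0), (339, 0), (33, 1), (75, 1), (114, 1), (150, 1), (183, 1), (213, 1), (240, 1), (264, 1), (285, 1), (303, 1), (318, 1), (330, 1), (363, 0), (342, 0), (345, 0), (348, 0), (36, 1), (78, 1), (117, 1), (153, 1), (186, 1), (216, 1), (243, 1), (267, 1), (288, 1), (306, 1), (321, 1), (333, 1), (342, 1), (363, 0), (351, 0), (354, 0), (39, 1), (81, 1), (120, 1), (156, 1), (189, 1), (219, 1), (246, 1), (270, 1), (291, 1), (309, 1), (324, 1), (336, 1), (345, 1), (351, 1), (363, 0), (357, 0), (42, 1), (84, 1), (123, 1), (159, 1), (192, 1), (222, 1), (249, 1), (273, 1), (294, 1), (312, 1), (327, 1), (339, 1), (348, 1), (354, 1), (357, 1), (363, 0), (360, 0)])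
    (c2 := [(3, 0), (6, 0), (9, 0), (12, 0), (15, 0), (18, 0), (21, 0), (24, 0), (27, 0), (30, 0), (33, 0), (36, 0), (39, 0), (42, 0), (45, 0), (54, 0), (57, 0), (60, 0), (63, 0), (66, 0), (69, 0), (72, 0), (75, 0), (78, 0), (81, 0), (84, 0), (87, 0), (90, 0), (93, 0), (105, 0), (108, 0), (111, 0), (114, 0), (117, 0), (120, 0), (123, 0), (126, 0), (129, 0), (132, 0), (135, 0), (138, 0), (141, 0), (156, 0), (159, 0), (162, 0), (165, 0), (168, 0), (171, 0), (174, 0), (177, 0), (180, 0), (183, 0), (186, 0), (189, 0), (207, 0), (210, 0), (213, 0), (216, 0), (219, 0), (222, 0), (225, 0), (228, 0), (231, 0), (234, 0), (237, 0), (258, 0), (261, 0), (264, 0), (267, 0), (270, 0), (273, 0), (276, 0), (279, 0), (282, 0), (285, 0), (309, 0), (312, 0), (315, 0), (318, 0), (321, 0), (324, 0), (327, 0), (330, 0), (333, 0), (360, 0), (363, 0), (366, 0), (369, 0), (372, 0), (375, 0), (378, 0), (381, 0), (411, 0),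 (414, 0), (417, 0), (420, 0), (423, 0), (426, 0), (429, 0), (462, 0), (465, 0), (468, 0), (471, 0), (474, 0), (477, 0), (513, 0), (516, 0), (519, 0), (522, 0), (525, 0), (564, 0), (567, 0), (570, 0), (573, 0), (615, 0), (618, 0), (621, 0), (666, 0), (669, 0), (717, 0), (768, 0)])
    (by decide +kernel) (by decide +kernel)

end Cfsg.Agent.Spor.Y5
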